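import Groth.Agent.ModSiteLib.Flat
import Groth.Agent.ModSiteLib.FlatLocal
import Groth.Agent.ModSiteLib.RestrTensor
import Groth.Agent.ModSiteLib.Colimits
import Mathlib.Algebra.Category.ModuleCat.Sheaf.Quasicoherent
import Mathlib.CategoryTheory.Limits.Preserves.Shapes.Kernels

/-!
# Tensor products of presented sheaves of modules
-/

set_option autoImplicit false
set_option linter.style.haveILetI false
set_option backward.isDefEq.respectTransparency false
set_option backward.isDefEq.respectTransparency.types false
set_option maxHeartbeats 1000000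

universe u

open CategoryTheory Limits ModSiteLib

namespace Groth.Agent.TensorPermLib

variable {C : Type u} [SmallCategory C] {J : GrothendieckTopology C} {O : Sheaf J CommRingCat.{u}}

/-- Tensoring on the left. -/
noncomputable abbrev T (M : ModSite.Mod O) : ModSite.Mod O ⥤ ModSite.Mod O := (ModSite.tensorBi O).obj M

/-- Tensoring on the right. -/
noncomputable abbrev R (N : ModSite.Mod O) : ModSite.Mod O ⥤ ModSite.Mod O :=
  (ModSite.tensorBi O).flip.obj N

instance preservesColimits_T (M : ModSite.Mod O) : PreservesColimitsOfSize.{u, u} (T M) :=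
  preservesColimits_tensor O M

instance preservesColimits_R (N : ModSite.Mod O) : PreservesColimitsOfSize.{u, u} (R N) :=
  preservesColimits_tensor_flip O N

instance preservesFiniteColimits_T (M : ModSite.Mod O) : PreservesFiniteColimits (T M) :=
  PreservesColimitsOfSize.preservesFiniteColimits _

instance preservesFiniteColimits_R (N : ModSite.Mod O) : PreservesFiniteColimits (R N) :=
  preservesFiniteColimits_tensor_flip O N

instance preservesEpi_T (M : ModSite.Mod O) : (T M).PreservesEpimorphisms := inferInstance

instance preservesEpi_R (N : ModSite.Mod O) : (R N).PreservesEpimorphisms := inferInstance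

instance preservesZero_T (M : ModSite.Mod O) : (T M).PreservesZeroMorphisms :=
  haveI := isLeftAdjoint_of_preservesColimits (T M)
  inferInstance

instance preservesZero_R (N : ModSite.Mod O) : (R N).PreservesZeroMorphisms :=
  haveI := isLeftAdjoint_of_preservesColimits (R N)
  inferInstance

/-- The free module, as a tensor product with the unit. -/
noncomputable def freeUnitIso (L : Type u) :
    SheafOfModules.free (R := ModSite.ringSh O) L ≅
      (T (SheafOfModules.free (R := ModSite.ringSh O) L)).obj (ModSite.unit O) :=
  SheafOfModules.mapFreeIso (R (ModSite.unit O)) L (unitTensorIso (ModSite.unit O)).symm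

/-- The tensor product of free modules. -/
noncomputable def freeTensIso (L L' : Type u) :
    SheafOfModules.free (R := ModSite.ringSh O) (Σ _ : L', L) ≅
      (T (SheafOfModules.free (R := ModSite.ringSh O) L)).obj (SheafOfModules.free L') :=
  haveI : HasColimitsOfSize.{u, u} (ModSite.Mod O) :=
    inferInstanceAs (HasColimitsOfSize.{u, u} (SheafOfModules.{u} (ModSite.ringSh O)))
  haveI : HasColimitsOfShape (Discrete L) (ModSite.Mod O) := inferInstance
  haveI : ∀ _ : L', HasCoproduct fun _ : L => ModSite.unit O := fun _ => inferInstance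
  let e₁ : SheafOfModules.free (R := ModSite.ringSh O) (Σ _ : L', L) ≅
      ∐ fun _ : L' => SheafOfModules.free (R := ModSite.ringSh O) L :=
    (sigmaSigmaIso (fun _ : L' => L) (fun (_ : L') (_ : L) => ModSite.unit O)).symm
  let e₂ : (∐ fun _ : L' => SheafOfModules.free (R := ModSite.ringSh O) L) ≅
      ∐ fun _ : L' => (T (SheafOfModules.free (R := ModSite.ringSh O) L)).obj (ModSite.unit O) :=
    Sigma.mapIso fun _ : L' => freeUnitIso L
  let e₃ : (∐ fun _ : L' => (T (SheafOfModules.free (R := ModSite.ringSh O) L)).obj (ModSite.unit O)) ≅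
      (T (SheafOfModules.free (R := ModSite.ringSh O) L)).obj (SheafOfModules.free L') :=
    (PreservesCoproduct.iso (T (SheafOfModules.free (R := ModSite.ringSh O) L))
      (fun _ : L' => ModSite.unit O)).symm
  e₁ ≪≫ e₂ ≪≫ e₃

variable {F G : ModSite.Mod O}

/-- The tensor product of two maps. -/
noncomputable def tensMap {F' G' : ModSite.Mod O} (a : F ⟶ F') (b : G ⟶ G') :
    (T F).obj G ⟶ (T F').obj G' :=
  (R G).map a ≫ (T F').map b

theorem tensMap_eq {F' G' : ModSite.Mod O} (a : F ⟶ F') (b : G ⟶ G') :
    tensMap a b = (T F).map b ≫ (R G').map a :=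
  (((ModSite.tensorBi O).map a).naturality b).symm

theorem epi_tensMap {F' G' : ModSite.Mod O} (a : F ⟶ F') (b : G ⟶ G') [Epi a] [Epi b] :
    Epi (tensMap a b) :=
  inferInstanceAs (Epi ((R G).map a ≫ (T F').map b))

/-- Generating sections of a tensor product. -/
noncomputable def tensGen (σ : F.GeneratingSections) (τ : G.GeneratingSections) :
    ((T F).obj G).GeneratingSections where
  I := Σ _ : τ.I, σ.I
  s := ((T F).obj G).freeHomEquiv ((freeTensIso σ.I τ.I).hom ≫ tensMap σ.π τ.π)
  epi := by
    rw [Equiv.symm_apply_apply]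
    haveI := epi_tensMap σ.π τ.π
    infer_instance

theorem tensGen_π (σ : F.GeneratingSections) (τ : G.GeneratingSections) :
    (tensGen σ τ).π = (freeTensIso σ.I τ.I).hom ≫ tensMap σ.π τ.π :=
  ((T F).obj G).freeHomEquiv.symm_apply_apply _

theorem isIso_tensGen (σ : F.GeneratingSections) (τ : G.GeneratingSections) [IsIso σ.π] [IsIso τ.π] :
    IsIso (tensGen σ τ).π := by
  rw [tensGen_π, tensMap]
  infer_instance

/-- The cokernel of the tensor product of two presented maps. -/
noncomputable def tensCokernel {A M A' M' : ModSite.Mod O} {a : A ⟶ M} {p : M ⟶ F} {b : A' ⟶ M'}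
    {q : M' ⟶ G} (wa : a ≫ p = 0) (ha : IsColimit (CokernelCofork.ofπ p wa)) (wb : b ≫ q = 0)
    (hb : IsColimit (CokernelCofork.ofπ q wb)) {Z : ModSite.Mod O} (k : (T M).obj M' ⟶ Z)
    (hka : (R M').map a ≫ k = 0) (hkb : (T M).map b ≫ k = 0) :
    { l : (T F).obj G ⟶ Z // tensMap p q ≫ l = k } := by
  let h₁ := isColimitCoforkMapOfIsColimit' (R M') wa ha
  let k₁ := CokernelCofork.IsColimit.desc' h₁ k hka
  haveI : Epi p := epi_of_isColimit_cofork ha
  haveI : Epi ((R A').map p) := inferInstance
  have hk₁ : (T F).map b ≫ k₁.1 = 0 := by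
    rw [← cancel_epi ((R A').map p), comp_zero, ← Category.assoc]
    refine (congrArg (· ≫ k₁.1) (tensMap_eq p b)).trans ((Category.assoc _ _ _).trans ?_)
    exact (congrArg ((T M).map b ≫ ·) k₁.2).trans hkb
  let h₂ := isColimitCoforkMapOfIsColimit' (T F) wb hb
  let k₂ := CokernelCofork.IsColimit.desc' h₂ k₁.1 hk₁
  exact ⟨k₂.1, (Category.assoc _ _ _).trans ((congrArg ((R M').map p ≫ ·) k₂.2).trans k₁.2)⟩

/-- A presentation of a tensor product. -/
noncomputable def tensPres (P : F.Presentation) (Q : G.Presentation) : ((T F).obj G).Presentation :=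
  let a := P.relations.π ≫ kernel.ι P.generators.π
  let b := Q.relations.π ≫ kernel.ι Q.generators.π
  let e := freeTensIso (O := O) P.generators.I Q.generators.I
  let r : SheafOfModules.free (R := ModSite.ringSh O)
      ((Σ _ : Q.generators.I, P.relations.I) ⊕ (Σ _ : Q.relations.I, P.generators.I)) ⟶
        SheafOfModules.free (Σ _ : Q.generators.I, P.generators.I) :=
    (SheafOfModules.freeSumIso _ _).inv ≫ coprod.desc
      ((freeTensIso P.relations.I Q.generators.I).hom ≫ (R _).map a ≫ e.inv)
      ((freeTensIso P.generators.I Q.relations.I).hom ≫ (T _).map b ≫ e.inv)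
  have wa : a ≫ P.generators.π = 0 := by simp [a]
  have wb : b ≫ Q.generators.π = 0 := by simp [b]
  have w : r ≫ e.hom ≫ tensMap P.generators.π Q.generators.π = 0 := by
    simp only [r, Category.assoc, ← cancel_epi (SheafOfModules.freeSumIso _ _).hom, Iso.hom_inv_id_assoc,
      comp_zero]
    apply coprod.hom_ext
    · simp only [coprod.inl_desc_assoc, Category.assoc, Iso.inv_hom_id_assoc, comp_zero]
      rw [tensMap, ← Category.assoc ((R _).map a), ← Functor.map_comp, wa, Functor.map_zero,
        zero_comp, comp_zero]
    · simp only [coprod.inr_desc_assoc, Category.assoc, Iso.inv_hom_id_assoc, comp_zero]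
      rw [tensMap_eq, ← Category.assoc ((T _).map b), ← Functor.map_comp, wb, Functor.map_zero,
        zero_comp, comp_zero]
  haveI : Epi (tensMap P.generators.π Q.generators.π) := epi_tensMap _ _
  SheafOfModules.presentationOfIsCokernelFree r (e.hom ≫ tensMap P.generators.π Q.generators.π) w
    (CokernelCofork.IsColimit.ofπ' _ w fun {Z} k hk => by
      have h1 := congrArg (fun t => coprod.inl ≫ (SheafOfModules.freeSumIso _ _).hom ≫ t) hk
      have h2 := congrArg (fun t => coprod.inr ≫ (SheafOfModules.freeSumIso _ _).hom ≫ t) hk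
      simp only [r, Category.assoc, Iso.hom_inv_id_assoc, coprod.inl_desc_assoc, coprod.inr_desc_assoc,
        comp_zero] at h1 h2
      let l := tensCokernel wa P.isColimit wb Q.isColimit (e.inv ≫ k)
        ((cancel_epi (freeTensIso P.relations.I Q.generators.I).hom).1 (h1.trans comp_zero.symm))
        ((cancel_epi (freeTensIso P.generators.I Q.relations.I).hom).1 (h2.trans comp_zero.symm))
      exact ⟨l.1, (Category.assoc _ _ _).trans
        ((congrArg (e.hom ≫ ·) l.2).trans (Iso.hom_inv_id_assoc e k))⟩)

section OverMap

variable {U V : C} (k : V ⟶ U)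

theorem preservesColimits_overMap :
    PreservesColimitsOfSize.{u, u} (SheafOfModules.overMap.{u} (ModSite.ringSh O) k) := by
  haveI : (SheafOfModules.overMap.{u} (ModSite.ringSh O) k).IsLeftAdjoint :=
    pushforward_isLeftAdjoint_of_isCocontinuous (Over.map k) (J := J.over V) (K := J.over U)
      (Sheaf.pushforwardOverMapIso (ModSite.ringSh O) k).inv
  exact (Adjunction.ofIsLeftAdjoint (SheafOfModules.overMap.{u} (ModSite.ringSh O) k)).leftAdjoint_preservesColimits

/-- Restriction in stages. -/
noncomputable def overMapIso (M : ModSite.Mod O) :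
    (SheafOfModules.overMap.{u} (ModSite.ringSh O) k).obj ((ModSite.restr O U).obj M) ≅
      (ModSite.restr O V).obj M :=
  (SheafOfModules.overFunctorMap (ModSite.ringSh O) k).app M

/-- Restriction of generating sections. -/
noncomputable def resGen {M : ModSite.Mod O} (σ : ((ModSite.restr O U).obj M).GeneratingSections) :
    ((ModSite.restr O V).obj M).GeneratingSections :=
  haveI := preservesColimits_overMap (O := O) k
  (σ.map (SheafOfModules.overMap.{u} (ModSite.ringSh O) k)
    (SheafOfModules.overMapUnitIso k).symm).ofEpi (overMapIso k M).hom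

/-- Restriction of presentations. -/
noncomputable def resPres {M : ModSite.Mod O} (P : ((ModSite.restr O U).obj M).Presentation) :
    ((ModSite.restr O V).obj M).Presentation :=
  haveI := preservesColimits_overMap (O := O) k
  SheafOfModules.Presentation.ofIsIso (overMapIso k M).hom
    (P.map (SheafOfModules.overMap.{u} (ModSite.ringSh O) k) (SheafOfModules.overMapUnitIso k).symm)

theorem isIso_resGen {M : ModSite.Mod O} (σ : ((ModSite.restr O U).obj M).GeneratingSections)
    [IsIso σ.π] : IsIso (resGen k σ).π := by
  rw [resGen, SheafOfModules.GeneratingSections.ofEpi_π]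
  infer_instance

end OverMap

/-- Generating sections of a restricted tensor product. -/
noncomputable def restrTensGen {U : C} (σ : ((ModSite.restr O U).obj F).GeneratingSections)
    (τ : ((ModSite.restr O U).obj G).GeneratingSections) :
    ((ModSite.restr O U).obj ((T F).obj G)).GeneratingSections :=
  (tensGen σ τ).ofEpi (restrTensorIso U F G).inv

/-- A presentation of a restricted tensor product. -/
noncomputable def restrTensPres {U : C} (P : ((ModSite.restr O U).obj F).Presentation)
    (Q : ((ModSite.restr O U).obj G).Presentation) :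
    ((ModSite.restr O U).obj ((T F).obj G)).Presentation :=
  SheafOfModules.Presentation.ofIsIso (restrTensorIso U F G).inv (tensPres P Q)

theorem isIso_restrTensGen {U : C} (σ : ((ModSite.restr O U).obj F).GeneratingSections)
    (τ : ((ModSite.restr O U).obj G).GeneratingSections) [IsIso σ.π] [IsIso τ.π] :
    IsIso (restrTensGen σ τ).π := by
  rw [restrTensGen, SheafOfModules.GeneratingSections.ofEpi_π]
  haveI := isIso_tensGen σ τ
  infer_instance

/-- A common refinement of two coverings. -/
theorem coversTop_refine {I I' : Type u} {X : I → C} {X' : I' → C} (h : J.CoversTop X)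
    (h' : J.CoversTop X') :
    J.CoversTop fun j : Σ (V : C) (i : I) (i' : I'), (V ⟶ X i) × (V ⟶ X' i') => j.1 := fun Y => by
  refine J.superset_covering (fun V g hg => ?_) (J.intersection_covering (h Y) (h' Y))
  obtain ⟨i, ⟨a⟩⟩ := (Sieve.mem_ofObjects_iff _ g).1 hg.1
  obtain ⟨i', ⟨b⟩⟩ := (Sieve.mem_ofObjects_iff _ g).1 hg.2
  exact (Sieve.mem_ofObjects_iff _ g).2 ⟨⟨V, i, i', a, b⟩, ⟨𝟙 _⟩⟩

end Groth.Agent.TensorPermLib
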